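import Mathlib

/-!
Zariski's inequality for the residue field of a valuation restricted to a subfield.
-/

set_option autoImplicit false
set_option maxHeartbeats 1000000

universe u

open IsLocalRing

noncomputable section

namespace Groth.Agent.DivModel

variable {k L K R : Type u} [Field k] [Field L] [Field K] [CommRing R] [IsDomain R] [ValuationRing R]
  [Algebra k L] [Algebra k K] [Algebra L K] [IsScalarTower k L K]
  [Algebra k R] [Algebra R K] [IsScalarTower k R K] [IsFractionRing R K]

/-- Among finitely many elements of the fraction field of a valuation ring one divides all. -/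
lemma exists_dominant {ι : Type*} (s : Finset ι) (hs : s.Nonempty) (c : ι → K) (hc : ∀ i ∈ s, c i ≠ 0) :
    ∃ i₀ ∈ s, ∀ i ∈ s, ∃ r : R, algebraMap R K r = c i / c i₀ := by
  obtain ⟨i₀, hi₀, hmax⟩ := s.exists_max_image (fun i => ValuationRing.valuation R K (c i)) hs
  refine ⟨i₀, hi₀, fun i hi => (ValuationRing.mem_integer_iff R K _).1 ?_⟩
  rw [Valuation.mem_integer_iff, map_div₀]
  exact div_le_one_of_le₀ (hmax i hi) zero_le

/-- Elements of a subfield whose residues are algebraically independent. -/
theorem exists_algebraicIndependent_residue {m n : ℕ} (hL : Algebra.trdeg k L = m) (hK : Algebra.trdeg k K = n)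
    (hκ : Algebra.trdeg k (ResidueField R) = ((n - 1 : ℕ) : Cardinal)) :
    ∃ (t : Fin (m - 1) → L) (x : Fin (m - 1) → R), (∀ i, algebraMap R K (x i) = algebraMap L K (t i)) ∧
      AlgebraicIndependent k fun i => residue R (x i) := by
  classical
  let A : Subalgebra k R := (IsScalarTower.toAlgHom k L K).range.comap (IsScalarTower.toAlgHom k R K)
  have hA : ∀ r : R, r ∈ A ↔ ∃ l : L, algebraMap L K l = algebraMap R K r := fun r => Iff.rfl
  let res : R →ₐ[k] ResidueField R := IsScalarTower.toAlgHom k R (ResidueField R)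
  have hinv : ∀ z ∈ A.map res, z⁻¹ ∈ A.map res := by
    rintro _ ⟨r, hr, rfl⟩
    by_cases hr0 : res r = 0
    · show (res r)⁻¹ ∈ A.map res
      rw [hr0, inv_zero]
      exact zero_mem _
    · obtain ⟨l, hl⟩ := (hA r).1 hr
      have hu : IsUnit r := by
        by_contra h
        exact hr0 ((residue_eq_zero_iff r).2 h)
      obtain ⟨v, rfl⟩ := hu
      refine ⟨↑v⁻¹, (hA _).2 ⟨l⁻¹, ?_⟩, ?_⟩
      · rw [map_inv₀, hl, map_units_inv]
      · exact map_units_inv res v
  let F : IntermediateField k (ResidueField R) := (A.map res).toIntermediateField hinv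
  have hF : ∀ z, z ∈ F ↔ ∃ r ∈ A, residue R r = z := fun z => Iff.rfl
  -- transcendental residues lift to transcendental elements
  obtain ⟨B, hB⟩ := exists_isTranscendenceBasis F (ResidueField R)
  choose b hb using fun z : B => residue_surjective (R := R) z.1
  have hind : AlgebraicIndependent L fun z => algebraMap R K (b z) := by
    rw [algebraicIndependent_iff]
    intro p hp
    by_contra hp0
    obtain ⟨j₀, hj₀, hdom⟩ := exists_dominant (R := R) p.support (MvPolynomial.support_nonempty.2 hp0)
      (fun j => algebraMap L K (p.coeff j)) (fun j hj => by simpa using MvPolynomial.mem_support_iff.1 hj)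
    choose! r hr using hdom
    let q : MvPolynomial B F := ∑ j ∈ p.support.attach, MvPolynomial.monomial j.1
      ⟨residue R (r j.1), (hF _).2 ⟨r j.1, (hA _).2 ⟨p.coeff j.1 / p.coeff j₀, by rw [hr _ j.2, map_div₀]⟩, rfl⟩⟩
    have hsum : ∑ j ∈ p.support.attach, r j.1 * (j.1 : B →₀ ℕ).prod (fun z e => b z ^ e) = 0 := by
      apply IsFractionRing.injective R K
      rw [map_sum, map_zero]
      have h0 : MvPolynomial.aeval (fun z => algebraMap R K (b z)) p * (algebraMap L K (p.coeff j₀))⁻¹ = 0 := by
        rw [hp, zero_mul]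
      rw [MvPolynomial.aeval_def, MvPolynomial.eval₂_eq, Finset.sum_mul] at h0
      refine Eq.trans ?_ h0
      rw [← Finset.sum_attach (s := p.support)]
      refine Finset.sum_congr rfl fun j _ => ?_
      rw [map_mul, hr _ j.2, map_finsuppProd]
      simp only [map_pow, Finsupp.prod]
      rw [div_eq_mul_inv]
      ring
    have hq : q = 0 := by
      refine (algebraicIndependent_iff.1 hB.1) q ?_
      have := congrArg (residue R) hsum
      rw [map_sum, map_zero] at this
      refine Eq.trans ?_ this
      rw [map_sum]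
      refine Finset.sum_congr rfl fun j _ => ?_
      rw [MvPolynomial.aeval_monomial, map_mul, map_finsuppProd]
      simp [hb]
    have h1 := congrArg (MvPolynomial.coeff j₀) hq
    rw [MvPolynomial.coeff_sum, MvPolynomial.coeff_zero, Finset.sum_eq_single ⟨j₀, hj₀⟩
      (fun j _ hne => by
        rw [MvPolynomial.coeff_monomial, if_neg]
        exact fun e => hne (Subtype.ext e)) (fun h => absurd (Finset.mem_attach _ _) h),
      MvPolynomial.coeff_monomial, if_pos rfl] at h1
    have h2 : algebraMap R K (r j₀) = algebraMap R K 1 := by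
      rw [map_one, hr _ hj₀, div_self]
      simpa using MvPolynomial.mem_support_iff.1 hj₀
    have h3 : residue R (r j₀) = 0 := congrArg Subtype.val h1
    rw [IsFractionRing.injective R K h2, map_one] at h3
    exact one_ne_zero h3
  have hB' : Algebra.trdeg F (ResidueField R) ≤ Algebra.trdeg L K := by
    rw [← hB.cardinalMk_eq_trdeg]
    exact hind.cardinalMk_le_trdeg
  have hKk := trdeg_add_eq k L (A := K)
  have hFk := trdeg_add_eq k F (A := ResidueField R)
  rw [hL, hK] at hKk
  rw [hκ] at hFk
  obtain ⟨e, he⟩ := Cardinal.lt_aleph0.1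
    ((le_add_self.trans_eq hKk).trans_lt (Cardinal.natCast_lt_aleph0))
  obtain ⟨a, ha⟩ := Cardinal.lt_aleph0.1 ((le_self_add.trans_eq hFk).trans_lt (Cardinal.natCast_lt_aleph0))
  obtain ⟨g, hg⟩ := Cardinal.lt_aleph0.1 ((le_add_self.trans_eq hFk).trans_lt (Cardinal.natCast_lt_aleph0))
  rw [he, ← Nat.cast_add, Nat.cast_inj] at hKk
  rw [ha, hg, ← Nat.cast_add, Nat.cast_inj] at hFk
  rw [hg, he, Nat.cast_le] at hB'
  -- choose independent elements of `F`
  obtain ⟨C, hC⟩ := exists_isTranscendenceBasis k F
  have hCa : ((m - 1 : ℕ) : Cardinal.{u}) ≤ Cardinal.mk C := by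
    rw [hC.cardinalMk_eq_trdeg, ha, Nat.cast_le]
    omega
  have : Cardinal.mk (ULift.{u} (Fin (m - 1))) ≤ Cardinal.mk C := by simpa using hCa
  obtain ⟨φ⟩ := Cardinal.le_def _ _ |>.1 this
  choose x hxA hx using fun i : Fin (m - 1) => (hF _).1 (φ ⟨i⟩).1.2
  choose t ht using fun i => (hA _).1 (hxA i)
  refine ⟨t, x, fun i => (ht i).symm, ?_⟩
  have h := (hC.1.comp (fun i => φ ⟨i⟩) fun i j e => ULift.up_injective (φ.injective e)).map' (f := F.val)
    Subtype.val_injective
  rw [show (fun i => residue R (x i)) = F.val ∘ ((↑) ∘ fun i => φ ⟨i⟩) from funext fun i => (hx i)]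
  exact h

end Groth.Agent.DivModel
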