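import Groth.Agent.WeilLib.Trdeg
import Groth.Agent.ExtShX.CodimField

/-!
Transcendence degrees of residue fields and codimension.
-/

set_option autoImplicit false
set_option backward.isDefEq.respectTransparency false
set_option linter.style.haveILetI false

universe u

open CategoryTheory AlgebraicGeometry Topology TopologicalSpace
open Groth.Agent.WeilLib (trd kStr)

noncomputable section

namespace Groth.Agent.DivModel

variable {k : Type u} [Field k] {X Y : Scheme.{u}} (f : X ⟶ Spec (CommRingCat.of k))
  (fY : Y ⟶ Spec (CommRingCat.of k)) (g : X ⟶ Y)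

lemma trd_le (hg : g ≫ fY = f) (x : X) : trd fY (g x) ≤ trd f x := by
  letI := (kStr fY (g x)).toAlgebra
  letI := (kStr f x).toAlgebra
  let φ : Y.residueField (g x) →ₐ[k] X.residueField x :=
    { (g.residueFieldMap x).hom with commutes' := RingHom.congr_fun (WeilLib.kStr_comp f g fY hg x) }
  exact trdeg_le_of_injective φ φ.toRingHom.injective

lemma trd_eq [IsOpenImmersion g] (hg : g ≫ fY = f) (x : X) : trd fY (g x) = trd f x := by
  letI := (kStr fY (g x)).toAlgebra
  letI := (kStr f x).toAlgebra
  let φ : Y.residueField (g x) →ₐ[k] X.residueField x :=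
    { (g.residueFieldMap x).hom with commutes' := RingHom.congr_fun (WeilLib.kStr_comp f g fY hg x) }
  exact (AlgEquiv.ofBijective φ (ConcreteCategory.bijective_of_isIso (g.residueFieldMap x))).trdeg_eq

/-- A point whose residue field has transcendence degree one less than the generic one has codimension at most one. -/
lemma stalk_dim_le_one [LocallyOfFiniteType f] [IsIntegral X] {m : ℕ} (hm : trd f (genericPoint X) = m) {z : X}
    (hz : ((m - 1 : ℕ) : Cardinal.{u}) ≤ trd f z) : ringKrullDim (X.presheaf.stalk z) ≤ 1 := by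
  let ps := specializationOrder X
  obtain ⟨a, ha, hah⟩ := WeilLib.exists_height_eq_trd f z
  obtain ⟨b, hb, hbh⟩ := WeilLib.exists_height_eq_trd f (genericPoint X)
  rw [hm, Nat.cast_inj] at hb
  rw [ha, Nat.cast_le] at hz
  rw [ringKrullDim_stalk_eq_coheight]
  refine WithBot.coe_le_one.2 (Order.coheight_le_iff.2 fun p hp => ?_)
  by_contra hlen
  have h2 : 2 ≤ p.length := by
    by_contra h
    exact hlen (Nat.cast_le_one.2 (by omega))
  have h1 : Order.height z ≤ Order.height p.head := Order.height_mono hp
  have e1 : p.head < p ⟨1, by omega⟩ := p.strictMono (by rw [Fin.lt_def]; simp)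
  have e2 : p ⟨1, by omega⟩ < p ⟨2, by omega⟩ := p.strictMono (by rw [Fin.lt_def]; simp)
  have h3 : Order.height (p ⟨2, by omega⟩) ≤ Order.height (genericPoint X) :=
    Order.height_mono (genericPoint_specializes _)
  have := (add_le_add (add_le_add h1 le_rfl) (le_refl (1 : ℕ∞))).trans
    (((add_le_add (Order.height_add_one_le e1) le_rfl).trans (Order.height_add_one_le e2)).trans h3)
  rw [hah, hbh] at this
  have : a + 1 + 1 ≤ b := by exact_mod_cast this
  omega

/-- The residue field of a codimension one point. -/
lemma trd_of_codim_one [LocallyOfFiniteType f] [IsIntegral X] {n : ℕ} (hn : trd f (genericPoint X) = n) {ξ : X}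
    (hξ : ringKrullDim (X.presheaf.stalk ξ) = 1) : trd f ξ = ((n - 1 : ℕ) : Cardinal.{u}) := by
  let ps := specializationOrder X
  obtain ⟨a, ha, hah⟩ := WeilLib.exists_height_eq_trd f ξ
  obtain ⟨b, hb, hbh⟩ := WeilLib.exists_height_eq_trd f (genericPoint X)
  rw [hn, Nat.cast_inj] at hb
  obtain ⟨a', d, ha', hd, had⟩ := ExtShX.exists_dims_field f n (fun Z hZ => by
    rw [irreducibleComponents_eq_singleton] at hZ
    rw [Set.mem_singleton_iff.1 hZ, ← (genericPoint_spec X), BMCoh.topologicalKrullDim_closure_singleton, hbh,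
      ← hb]
    rfl) ξ
  rw [BMCoh.topologicalKrullDim_closure_singleton, hah] at ha'
  rw [hξ] at hd
  have h1 : a = a' := by exact_mod_cast ha'
  have h2 : d = 1 := by exact_mod_cast hd.symm
  rw [ha, Nat.cast_inj]
  omega

end Groth.Agent.DivModel
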