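import Groth.Agent.RZExt.Graph

/-!
The closure of the graph of a morphism defined on a dense open.
-/

set_option autoImplicit false
set_option backward.isDefEq.respectTransparency false
set_option linter.style.haveILetI false
set_option maxHeartbeats 1000000

universe u

open CategoryTheory CategoryTheory.Limits AlgebraicGeometry TopologicalSpace

noncomputable section

namespace Groth.Agent.DivModel

variable {S Y P : Scheme.{u}}

theorem exists_graph_closure (sY : Y ⟶ S) (sP : P ⟶ S) [IsProper sP] [IsProper sY] [CompactSpace Y]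
    [IsIntegral Y] [IsLocallyNoetherian Y] (U : Y.Opens) (hU : (U : Set Y).Nonempty) (τ : (U : Scheme.{u}) ⟶ P)
    (hτ : τ ≫ sP = U.ι ≫ sY) :
    ∃ (Z : Scheme.{u}) (_ : IsIntegral Z) (φ : Z ⟶ Y) (q : Z ⟶ P) (w : (U : Scheme.{u}) ⟶ Z),
      IsProper φ ∧ IsProper (φ ≫ sY) ∧ q ≫ sP = φ ≫ sY ∧ w ≫ φ = U.ι ∧ w ≫ q = τ ∧ IsIso (φ ∣_ U) := by
  haveI : IsNoetherian Y := AlgebraicGeometry.IsNoetherian.mk
  haveI : QuasiCompact U.ι := inferInstance
  let γ : (U : Scheme.{u}) ⟶ pullback sY sP := pullback.lift U.ι τ hτ.symm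
  haveI : QuasiCompact γ := by
    haveI : QuasiCompact (γ ≫ pullback.fst sY sP) := by rw [pullback.lift_fst]; infer_instance
    exact QuasiCompact.of_comp γ (pullback.fst sY sP)
  haveI : Nonempty U := hU.to_subtype
  haveI : IsIntegral (U : Scheme.{u}) := inferInstance
  haveI : IsIso (U.ι ∣_ U) := by
    have h1 : U.ι ⁻¹ᵁ U = ⊤ := top_le_iff.1 fun z _ => z.2
    haveI : IsIso (U.ι ⁻¹ᵁ U).ι := by rw [h1, ← Scheme.topIso_hom]; infer_instance
    rw [show U.ι ∣_ U = (U.ι ⁻¹ᵁ U).ι by rw [← cancel_mono U.ι, morphismRestrict_ι]]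
    infer_instance
  haveI : IsClosedImmersion (γ ∣_ (pullback.fst sY sP ⁻¹ᵁ U)) := by
    have key : ∀ (k : (U : Scheme.{u}) ⟶ Y), k = U.ι → IsClosedImmersion (k ∣_ U) := by
      rintro _ rfl
      infer_instance
    haveI : IsClosedImmersion (γ ∣_ (pullback.fst sY sP ⁻¹ᵁ U) ≫ pullback.fst sY sP ∣_ U) := by
      rw [← morphismRestrict_comp]
      exact key _ (pullback.lift_fst _ _ _)
    exact IsClosedImmersion.of_comp (γ ∣_ (pullback.fst sY sP ⁻¹ᵁ U)) (pullback.fst sY sP ∣_ U)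
  haveI := RZExt.isIso_toImage_restrict γ (pullback.fst sY sP ⁻¹ᵁ U)
  let φ := γ.imageι ≫ pullback.fst sY sP
  have h2 : γ.toImage ≫ φ = U.ι := by
    rw [show γ.toImage ≫ φ = (γ.toImage ≫ γ.imageι) ≫ pullback.fst sY sP from (Category.assoc _ _ _).symm,
      Scheme.Hom.toImage_imageι, pullback.lift_fst]
  haveI : IsIso (φ ∣_ U) := by
    have h1 : γ.toImage ∣_ (φ ⁻¹ᵁ U) ≫ φ ∣_ U = (γ.toImage ≫ φ) ∣_ U := (morphismRestrict_comp _ _ _).symm
    have key : ∀ (k : (U : Scheme.{u}) ⟶ Y), k = U.ι → IsIso (k ∣_ U) := by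
      rintro _ rfl
      infer_instance
    haveI : IsIso (γ.toImage ∣_ (φ ⁻¹ᵁ U) ≫ φ ∣_ U) := h1.symm ▸ key _ h2
    haveI : IsIso (γ.toImage ∣_ (φ ⁻¹ᵁ U)) := ‹IsIso (γ.toImage ∣_ (γ.imageι ⁻¹ᵁ (pullback.fst sY sP ⁻¹ᵁ U)))›
    exact IsIso.of_isIso_comp_left (γ.toImage ∣_ (φ ⁻¹ᵁ U)) (φ ∣_ U)
  haveI : IsDominant γ.toImage := by
    haveI := RZExt.isSchemeTheoreticallyDominant_toImage γ
    infer_instance
  haveI : IrreducibleSpace γ.image := by
    have h0 : IsIrreducible (γ.toImage '' Set.univ) :=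
      (IrreducibleSpace.isIrreducible_univ _).image _ γ.toImage.continuous.continuousOn
    rw [Set.image_univ] at h0
    have h : IsIrreducible (closure (Set.range γ.toImage)) := h0.closure
    rw [γ.toImage.denseRange.closure_range] at h
    exact { toNonempty := ⟨h.nonempty.some⟩, isPreirreducible_univ := h.2 }
  haveI := RZExt.isSchemeTheoreticallyDominant_toImage γ
  haveI : IsReduced γ.image := IsSchemeTheoreticallyDominant.isReduced γ.toImage
  exact ⟨γ.image, isIntegral_of_irreducibleSpace_of_isReduced _, φ, γ.imageι ≫ pullback.snd sY sP, γ.toImage,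
    inferInstance, inferInstance, by simp only [φ, Category.assoc, pullback.condition], h2,
    by rw [Scheme.Hom.toImage_imageι_assoc, pullback.lift_snd], inferInstance⟩

end Groth.Agent.DivModel
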