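import Groth.Agent.DivModel.Alg
import Groth.Agent.DivModel.Dims
import Groth.Agent.DivModel.Graph
import Groth.Agent.Nagata.Noether

/-!
A rational map is defined at a divisor with image at most a divisor after a modification of the target.
-/

set_option autoImplicit false
set_option backward.isDefEq.respectTransparency false
set_option linter.style.haveILetI false
set_option maxHeartbeats 1000000

universe u

open CategoryTheory CategoryTheory.Limits AlgebraicGeometry TopologicalSpace
open Groth.Agent.WeilLib (trd kStr secStr)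

noncomputable section

namespace Groth.Agent.DivModel

variable {k : Type u} [Field k] {X Y : Scheme.{u}}

/-- The structure map of a local ring. -/
def stalkStr (f : X ⟶ Spec (CommRingCat.of k)) (x : X) : k →+* X.presheaf.stalk x :=
  (X.presheaf.germ ⊤ x trivial).hom.comp (secStr f ⊤)

lemma fromSpecStalk_comp (f : X ⟶ Spec (CommRingCat.of k)) (x : X) :
    X.fromSpecStalk x ≫ f = Spec.map (CommRingCat.ofHom (stalkStr f x)) := by
  have h : f = X.toSpecΓ ≫ Spec.map ((Scheme.ΓSpecIso (CommRingCat.of k)).inv ≫ f.appTop) := by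
    rw [Spec.map_comp, ← Category.assoc, ← Scheme.toSpecΓ_naturality, Category.assoc,
      toSpecΓ_SpecMap_ΓSpecIso_inv, Category.comp_id]
  conv_lhs => rw [h]
  rw [Scheme.fromSpecStalk_toSpecΓ_assoc, ← Spec.map_comp]
  congr 1
  ext a
  exact congrArg (fun m => (X.presheaf.germ ⊤ x trivial).hom (CommRingCat.Hom.hom m ((Scheme.ΓSpecIso (CommRingCat.of k)).inv a)))
    (Scheme.Hom.appLE_eq_app f (U := ⊤)).symm

lemma stalkSpecializes_comp_stalkStr (f : X ⟶ Spec (CommRingCat.of k)) {x y : X} (h : x ⤳ y) :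
    (X.presheaf.stalkSpecializes h).hom.comp (stalkStr f y) = stalkStr f x := by
  ext a
  exact X.presheaf.germ_stalkSpecializes_apply (U := ⊤) (show y ∈ (⊤ : X.Opens) from trivial) h _

lemma residue_comp_stalkStr (f : X ⟶ Spec (CommRingCat.of k)) (x : X) :
    (IsLocalRing.residue (X.presheaf.stalk x)).comp (stalkStr f x) = kStr f x := rfl

/-- A point valued in a field factors through the local ring of its image. -/
lemma exists_factor {K : CommRingCat.{u}} [IsLocalRing K] (h : Spec K ⟶ Y) {y : Y}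
    (hy : h (IsLocalRing.closedPoint K) = y) :
    ∃ φ : Y.presheaf.stalk y ⟶ K, Spec.map φ ≫ Y.fromSpecStalk y = h := by
  subst hy
  exact ⟨Scheme.stalkClosedPointTo h, Scheme.Spec_stalkClosedPointTo_fromSpecStalk h⟩

lemma trdeg_functionField [IsIntegral X] (f : X ⟶ Spec (CommRingCat.of k)) [LocallyOfFiniteType f] :
    ∃ n : ℕ, trd f (genericPoint X) = n ∧
      (letI := (stalkStr f (genericPoint X)).toAlgebra
       Algebra.trdeg k X.functionField = n) := by
  obtain ⟨n, hn, -⟩ := WeilLib.exists_height_eq_trd f (genericPoint X)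
  refine ⟨n, hn, ?_⟩
  letI := (stalkStr f (genericPoint X)).toAlgebra
  letI := (kStr f (genericPoint X)).toAlgebra
  let φ : X.functionField →ₐ[k] X.residueField (genericPoint X) :=
    { IsLocalRing.residue X.functionField with
      commutes' := RingHom.congr_fun (residue_comp_stalkStr f (genericPoint X)) }
  rw [← hn]
  exact (AlgEquiv.ofBijective φ ⟨φ.toRingHom.injective, IsLocalRing.residue_surjective⟩).trdeg_eq

theorem exists_model [IsIntegral X] [IsIntegral Y] (sX : X ⟶ Spec (CommRingCat.of k))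
    (sY : Y ⟶ Spec (CommRingCat.of k)) [LocallyOfFiniteType sX] [IsProper sY] (ξ : X)
    (hξv : ValuationRing (X.presheaf.stalk ξ)) (hξ : ringKrullDim (X.presheaf.stalk ξ) = 1)
    (f : X.PartialMap Y) (hf : f.hom ≫ sY = f.domain.ι ≫ sX) [IsDominant f.hom] :
    ∃ (Z : Scheme.{u}) (_ : IsIntegral Z) (φ : Z ⟶ Y) (_ : IsProper (φ ≫ sY)) (P : Z.PartialIso Y)
      (_ : P.iso.hom ≫ P.target.ι = P.source.ι ≫ φ) (g : X.PartialMap Z)
      (_ : g.hom ≫ φ ≫ sY = g.domain.ι ≫ sX) (_ : (g.compHom φ).toRationalMap = f.toRationalMap)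
      (hξg : ξ ∈ g.domain), ringKrullDim (Z.presheaf.stalk (g.hom ⟨ξ, hξg⟩)) ≤ 1 := by
  haveI := hξv
  haveI : CompactSpace Y := QuasiCompact.compactSpace_of_compactSpace sY
  haveI : IsLocallyNoetherian Y := LocallyOfFiniteType.isLocallyNoetherian sY
  set ηX := genericPoint X
  set ηY := genericPoint Y
  have hηd : ηX ∈ f.domain := (genericPoint_specializes _).mem_open f.domain.2 f.dense_domain.nonempty.choose_spec
  -- the map of function fields
  have hgen : f.fromFunctionField (IsLocalRing.closedPoint X.functionField) = ηY := by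
    haveI : Nonempty f.domain := ⟨⟨_, hηd⟩⟩
    change (f.domain.fromSpecStalkOfMem ηX hηd ≫ f.hom) (IsLocalRing.closedPoint _) = _
    rw [Scheme.Hom.comp_apply]
    rw [show f.domain.fromSpecStalkOfMem ηX hηd (IsLocalRing.closedPoint _) = genericPoint f.domain.toScheme from ?_]
    · have h := (genericPoint_spec f.domain.toScheme).image f.hom.continuous
      rw [Set.image_univ, f.hom.denseRange.closure_range] at h
      exact h.eq (genericPoint_spec Y)
    · apply f.domain.ι.isOpenEmbedding.injective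
      rw [← Scheme.Hom.comp_apply, Scheme.Opens.fromSpecStalkOfMem_ι, Scheme.fromSpecStalk_closedPoint,
        genericPoint_eq_of_isOpenImmersion f.domain.ι]
  obtain ⟨ψ, hψ⟩ := exists_factor f.fromFunctionField hgen
  have hψs : ψ.hom.comp (stalkStr sY ηY) = stalkStr sX ηX := by
    have h1 : Spec.map (CommRingCat.ofHom (stalkStr sY ηY) ≫ ψ) = Spec.map (CommRingCat.ofHom (stalkStr sX ηX)) := by
      rw [Spec.map_comp, ← fromSpecStalk_comp, reassoc_of% hψ, ← fromSpecStalk_comp,
        Scheme.PartialMap.fromFunctionField, Scheme.PartialMap.fromSpecStalkOfMem, Category.assoc, hf,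
        Scheme.Opens.fromSpecStalkOfMem_ι_assoc]
    exact congrArg CommRingCat.Hom.hom (Spec.map_injective h1)
  obtain ⟨m, hmY, hm⟩ := trdeg_functionField sY
  obtain ⟨n, hnX, hn⟩ := trdeg_functionField sX
  letI := (stalkStr sY ηY).toAlgebra
  letI := (stalkStr sX ηX).toAlgebra
  letI := (stalkStr sX ξ).toAlgebra
  let L : Type u := Y.functionField
  let K : Type u := X.functionField
  let R : Type u := X.presheaf.stalk ξ
  letI : Algebra Y.functionField X.functionField := ψ.hom.toAlgebra
  haveI : IsScalarTower k Y.functionField X.functionField :=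
    IsScalarTower.of_algebraMap_eq fun a => (RingHom.congr_fun hψs a).symm
  haveI : IsScalarTower k (X.presheaf.stalk ξ) X.functionField :=
    IsScalarTower.of_algebraMap_eq fun a =>
      (RingHom.congr_fun (stalkSpecializes_comp_stalkStr sX (genericPoint_specializes ξ)) a).symm
  obtain ⟨t, x, htx, hind⟩ := exists_algebraicIndependent_residue (k := k) (L := Y.functionField)
    (K := X.functionField) (R := X.presheaf.stalk ξ) hm hn (by
      rw [← trd_of_codim_one sX hnX hξ]
      rfl)
  -- the affine space and the map defined near the generic point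
  let Ak : CommRingCat.{u} := CommRingCat.of (MvPolynomial (Fin (m - 1)) k)
  let sA : Spec Ak ⟶ Spec (CommRingCat.of k) := Spec.map (CommRingCat.ofHom MvPolynomial.C)
  haveI : LocallyOfFiniteType sA :=
    (HasRingHomProperty.Spec_iff (P := @LocallyOfFiniteType)).2
      (RingHom.finiteType_algebraMap.2 (inferInstance : Algebra.FiniteType k (MvPolynomial (Fin (m - 1)) k)))
  let aT : Ak ⟶ Y.presheaf.stalk ηY := CommRingCat.ofHom (MvPolynomial.aeval (R := k) t).toRingHom
  let aX : Ak ⟶ X.presheaf.stalk ξ := CommRingCat.ofHom (MvPolynomial.aeval (R := k) x).toRingHom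
  have haT : Spec.map aT ≫ sA = Y.fromSpecStalk ηY ≫ sY := by
    rw [fromSpecStalk_comp, ← Spec.map_comp]
    congr 1
    ext a
    exact (MvPolynomial.aeval (R := k) t).commutes a
  have haX : Spec.map aX ≫ sA = X.fromSpecStalk ξ ≫ sX := by
    rw [fromSpecStalk_comp, ← Spec.map_comp]
    congr 1
    ext a
    exact (MvPolynomial.aeval (R := k) x).commutes a
  have hcomp : aT ≫ ψ = aX ≫ X.presheaf.stalkSpecializes (genericPoint_specializes ξ) := by
    apply CommRingCat.hom_ext
    refine MvPolynomial.ringHom_ext (fun a => ?_) fun i => ?_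
    · change ψ.hom (MvPolynomial.aeval t (MvPolynomial.C a)) =
        (X.presheaf.stalkSpecializes _).hom (MvPolynomial.aeval x (MvPolynomial.C a))
      rw [MvPolynomial.aeval_C, MvPolynomial.aeval_C]
      exact (RingHom.congr_fun hψs a).trans
        (RingHom.congr_fun (stalkSpecializes_comp_stalkStr sX (genericPoint_specializes ξ)) a).symm
    · change ψ.hom (MvPolynomial.aeval t (MvPolynomial.X i)) =
        (X.presheaf.stalkSpecializes _).hom (MvPolynomial.aeval x (MvPolynomial.X i))
      rw [MvPolynomial.aeval_X, MvPolynomial.aeval_X]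
      exact (htx i).symm
  let τ := Scheme.PartialMap.ofFromSpecStalk sY sA (Spec.map aT) haT
  have hηU : ηY ∈ τ.domain := Scheme.PartialMap.mem_domain_ofFromSpecStalk _ _ _ _
  obtain ⟨Pc, j, sP, hj, -, hP, hjP⟩ := Nagata.exists_compactification sA
  obtain ⟨Z, hZ, φ, q, w, hφ, hφY, hq, hwφ, hwq, hiso⟩ := exists_graph_closure sY sP τ.domain ⟨_, hηU⟩
    (τ.hom ≫ j) (by rw [Category.assoc, hjP]; exact Scheme.PartialMap.ofFromSpecStalk_comp _ _ _ _)
  haveI := hj
  haveI := hP
  haveI := hφY
  -- the generic value, extended over the valuation ring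
  let z₀ : Spec X.functionField ⟶ Z := Spec.map ψ ≫ τ.domain.fromSpecStalkOfMem ηY hηU ≫ w
  have hz₀φ : z₀ ≫ φ = f.fromFunctionField := by
    simp only [z₀, Category.assoc, hwφ, Scheme.Opens.fromSpecStalkOfMem_ι, hψ]
  have hz₀q : z₀ ≫ q = Spec.map (X.presheaf.stalkSpecializes (genericPoint_specializes ξ)) ≫ Spec.map aX ≫ j := by
    simp only [z₀, Category.assoc, hwq]
    rw [← Category.assoc (τ.domain.fromSpecStalkOfMem ηY hηU)]
    rw [show τ.domain.fromSpecStalkOfMem ηY hηU ≫ τ.hom = Spec.map aT from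
      Scheme.PartialMap.fromSpecStalkOfMem_ofFromSpecStalk _ _ _ _, ← Spec.map_comp_assoc, hcomp,
      Spec.map_comp_assoc]
  have hsq : CommSq z₀ (Spec.map (CommRingCat.ofHom (algebraMap (X.presheaf.stalk ξ) X.functionField))) (φ ≫ sY)
      (X.fromSpecStalk ξ ≫ sX) := ⟨by
    rw [reassoc_of% hz₀φ, Scheme.PartialMap.fromFunctionField, Scheme.PartialMap.fromSpecStalkOfMem, Category.assoc,
      hf, Scheme.Opens.fromSpecStalkOfMem_ι_assoc,
      ← Scheme.SpecMap_stalkSpecializes_fromSpecStalk_assoc (genericPoint_specializes ξ)]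
    rfl⟩
  have hex : ValuativeCriterion.Existence (φ ≫ sY) :=
    ((congrFun (congrFun (congrFun UniversallyClosed.eq_valuativeCriterion _) _) (φ ≫ sY)).mp
      (inferInstance : UniversallyClosed (φ ≫ sY))).1
  obtain ⟨⟨ℓ, hℓ1, hℓ2⟩⟩ := hex
    { R := X.presheaf.stalk ξ, K := X.functionField, i₁ := z₀, i₂ := _, commSq := hsq }
  have hℓq : ℓ ≫ q = Spec.map aX ≫ j := by
    haveI : IsDominant (Spec.map (CommRingCat.ofHom (algebraMap (X.presheaf.stalk ξ) X.functionField))) := by
      rw [isDominant_iff]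
      change DenseRange (PrimeSpectrum.comap (algebraMap (X.presheaf.stalk ξ) X.functionField))
      rw [PrimeSpectrum.denseRange_comap_iff_ker_le_nilRadical]
      rw [(RingHom.injective_iff_ker_eq_bot _).1 (IsFractionRing.injective _ _)]
      exact bot_le
    haveI : IsSeparated sP := inferInstance
    refine ext_of_isDominant_of_isSeparated sP ?_
      (Spec.map (CommRingCat.ofHom (algebraMap (X.presheaf.stalk ξ) X.functionField))) ?_
    · rw [Category.assoc, Category.assoc, hq, hjP, haX]
      exact hℓ2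
    · rw [reassoc_of% hℓ1]
      exact hz₀q
  let g := Scheme.PartialMap.ofFromSpecStalk sX (φ ≫ sY) ℓ hℓ2
  have hξg : ξ ∈ g.domain := Scheme.PartialMap.mem_domain_ofFromSpecStalk _ _ _ _
  have hgℓ : g.fromSpecStalkOfMem hξg = ℓ := Scheme.PartialMap.fromSpecStalkOfMem_ofFromSpecStalk _ _ _ _
  refine ⟨Z, hZ, φ, hφY, ⟨φ ⁻¹ᵁ τ.domain, ?_, τ.domain, τ.dense_domain, @asIso _ _ _ _ (φ ∣_ τ.domain) hiso⟩,
    morphismRestrict_ι φ _, g, Scheme.PartialMap.ofFromSpecStalk_comp _ _ _ _, ?_, hξg, ?_⟩
  · refine (φ ⁻¹ᵁ τ.domain).2.dense ⟨w ⟨ηY, hηU⟩, ?_⟩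
    change φ (w ⟨ηY, hηU⟩) ∈ τ.domain
    rw [← Scheme.Hom.comp_apply, hwφ]
    exact hηU
  · refine Scheme.RationalMap.eq_of_fromFunctionField_eq _ _ ?_
    rw [Scheme.RationalMap.fromFunctionField_toRationalMap, Scheme.RationalMap.fromFunctionField_toRationalMap,
      ← hz₀φ]
    have hηg : ηX ∈ g.domain := (genericPoint_specializes ξ).mem_open g.domain.2 hξg
    have h1 : g.domain.fromSpecStalkOfMem ηX hηg =
        Spec.map (X.presheaf.stalkSpecializes (genericPoint_specializes ξ)) ≫ g.domain.fromSpecStalkOfMem ξ hξg := by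
      rw [← cancel_mono g.domain.ι, Category.assoc, Scheme.Opens.fromSpecStalkOfMem_ι,
        Scheme.Opens.fromSpecStalkOfMem_ι, Scheme.SpecMap_stalkSpecializes_fromSpecStalk]
    change (g.domain.fromSpecStalkOfMem ηX hηg ≫ g.hom ≫ φ) = _
    rw [h1, Category.assoc, ← Category.assoc (g.domain.fromSpecStalkOfMem ξ hξg)]
    change Spec.map _ ≫ g.fromSpecStalkOfMem hξg ≫ φ = _
    rw [hgℓ, ← reassoc_of% hℓ1]
    rfl
  · -- the centre of the valuation has large residue field
    haveI := hZ
    have hZgen : trd (φ ≫ sY) (genericPoint Z) = (m : Cardinal.{u}) := by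
      haveI : Nonempty τ.domain := ⟨⟨_, hηU⟩⟩
      haveI : IsOpenImmersion w := by
        have e : w = inv (φ ∣_ τ.domain) ≫ (φ ⁻¹ᵁ τ.domain).ι := by
          have hr : Set.range w ⊆ Set.range (φ ⁻¹ᵁ τ.domain).ι := by
            rintro _ ⟨p, rfl⟩
            rw [Scheme.Opens.range_ι]
            change φ (w p) ∈ τ.domain
            rw [← Scheme.Hom.comp_apply, hwφ]
            exact p.2
          rw [← IsOpenImmersion.lift_fac (φ ⁻¹ᵁ τ.domain).ι w hr]
          congr 1
          rw [← cancel_mono (φ ∣_ τ.domain), IsIso.inv_hom_id, ← cancel_mono τ.domain.ι, Category.assoc,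
            morphismRestrict_ι, IsOpenImmersion.lift_fac_assoc, hwφ, Category.id_comp]
        rw [e]
        infer_instance
      rw [← genericPoint_eq_of_isOpenImmersion w, trd_eq (w ≫ φ ≫ sY) (φ ≫ sY) w rfl,
        ← trd_eq (w ≫ φ ≫ sY) sY τ.domain.ι (by rw [reassoc_of% hwφ]), genericPoint_eq_of_isOpenImmersion,
        hmY]
    refine stalk_dim_le_one (φ ≫ sY) hZgen ?_
    refine le_trans ?_ (trd_le (φ ≫ sY) sP q hq _)
    have hc : g.hom ⟨ξ, hξg⟩ = ℓ (IsLocalRing.closedPoint (X.presheaf.stalk ξ)) := by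
      rw [← hgℓ, Scheme.PartialMap.fromSpecStalkOfMem, Scheme.Hom.comp_apply]
      congr 1
      apply g.domain.ι.isOpenEmbedding.injective
      rw [← Scheme.Hom.comp_apply, Scheme.Opens.fromSpecStalkOfMem_ι]
      exact Scheme.fromSpecStalk_closedPoint.symm
    rw [hc, ← Scheme.Hom.comp_apply, hℓq, Scheme.Hom.comp_apply, trd_eq sA sP j hjP]
    let a₀ : Spec Ak := Spec.map aX (IsLocalRing.closedPoint (X.presheaf.stalk ξ))
    have ha₀ : a₀.asIdeal = (⊥ : Ideal (MvPolynomial (Fin (m - 1)) k)) := by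
      change (IsLocalRing.maximalIdeal (X.presheaf.stalk ξ)).comap (MvPolynomial.aeval (R := k) x).toRingHom = ⊥
      rw [← IsLocalRing.ker_residue, RingHom.comap_ker]
      rw [← RingHom.injective_iff_ker_eq_bot]
      have h' : (IsLocalRing.residue (X.presheaf.stalk ξ)).comp (MvPolynomial.aeval (R := k) x).toRingHom =
          (MvPolynomial.aeval (R := k) fun i => IsLocalRing.residue (X.presheaf.stalk ξ) (x i)).toRingHom := by
        refine MvPolynomial.ringHom_ext (fun a => ?_) fun i => ?_
        · simp only [RingHom.comp_apply, AlgHom.toRingHom_eq_coe, RingHom.coe_coe, MvPolynomial.aeval_C]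
          rfl
        · simp only [RingHom.comp_apply, AlgHom.toRingHom_eq_coe, RingHom.coe_coe, MvPolynomial.aeval_X]
      rw [h']
      exact hind
    change ((m - 1 : ℕ) : Cardinal.{u}) ≤ trd sA a₀
    obtain ⟨s, hs, hsh⟩ := WeilLib.exists_height_eq_trd sA a₀
    rw [hs, Nat.cast_le]
    let ps := specializationOrder (Spec Ak)
    have hdim : topologicalKrullDim ↥(closure ({a₀} : Set (Spec Ak))) = ((m - 1 : ℕ) : WithBot ℕ∞) := by
      rw [show closure ({a₀} : Set (Spec Ak)) = Set.univ from ?_]
      · rw [IsHomeomorph.topologicalKrullDim_eq _ (Homeomorph.Set.univ (Spec Ak)).isHomeomorph]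
        change topologicalKrullDim (PrimeSpectrum (MvPolynomial (Fin (m - 1)) k)) = _
        rw [PrimeSpectrum.topologicalKrullDim_eq_ringKrullDim, MvPolynomial.ringKrullDim_of_isNoetherianRing,
          ringKrullDim_eq_zero_of_field, zero_add]
        simp
      · change closure ({(a₀ : PrimeSpectrum (MvPolynomial (Fin (m - 1)) k))} : Set _) = Set.univ
        rw [PrimeSpectrum.closure_singleton, ha₀]
        exact PrimeSpectrum.zeroLocus_bot
    rw [BMCoh.topologicalKrullDim_closure_singleton, hsh] at hdim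
    have : s = m - 1 := ENat.coe_inj.1 (WithBot.coe_inj.1 hdim)
    omega

end Groth.Agent.DivModel
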